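import Cfsg.Agent.Lib.Fg6.OrderCount

/-!
A verified search for the finite groups with a given set of sizes of same-order classes.

If the sizes are `1`, the odd number `s` and the even numbers in `V`, then `s` is attained at order `2`,
every other order `m` has a size in `V` divisible by `φ m`, and Frobenius' theorem bounds the possibilities.
-/

set_option autoImplicit false

namespace Cfsg.Agent.Lib.SameOrderCounts

open Cfsg.Agent.Lib.Fg6

/-- The number of `g` with `g ^ M = 1`, read off from a list of (order, count). -/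
def sumDvd (o : List (ℕ × ℕ)) (M : ℕ) : ℕ :=
  (o.map fun e => if e.1 ∣ M then e.2 else 0).sum

/-- The test for a complete list of (order, count). -/
def leaf (V : List ℕ) (o : List (ℕ × ℕ)) : Bool :=
  (V.all fun v => o.any fun e => e.2 == v) && (o.all fun e => (o.map Prod.snd).sum % e.1 == 0) &&
    (List.range ((o.map Prod.snd).sum + 1)).all fun n =>
      !decide (n ∣ (o.map Prod.snd).sum) || decide (n ∣ sumDvd o n)

/-- All complete lists extending `o` by candidates from the second argument. -/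
def go (V : List ℕ) : ℕ → List (ℕ × ℕ) → List (ℕ × ℕ) → List (List (ℕ × ℕ))
  | 0, _, o => if leaf V o then [o] else []
  | _ + 1, [], o => if leaf V o then [o] else []
  | k + 1, (m, f) :: r, o =>
      go V k (r.filter fun e => e.1 % m != 0) o ++
        (V.filter fun v => v % f == 0 && (v + sumDvd o m) % m == 0).flatMap fun v =>
          go V k r (o ++ [(m, v)])

/-- `φ (p * d)` from `φ d`. -/
def step (p : ℕ) (e : ℕ × ℕ) : ℕ × ℕ :=
  (p * e.1, if p ∣ e.1 then p * e.2 else (p - 1) * e.2)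

/-- The candidate list `L` contains all possible orders above two, and `P` all possible primes. -/
def Closed (V P : List ℕ) (L : List (ℕ × ℕ)) (B : ℕ) : Prop :=
  (∀ v ∈ V, v % 2 = 0 ∧ 0 < v ∧ v < B) ∧ 2 ∈ P ∧
  (∀ p ∈ List.range (B + 1), 3 ≤ p → (∃ v ∈ V, (p - 1) ∣ v ∧ p ∣ 1 + v) → p.Prime → p ∈ P) ∧
  (∀ e ∈ (1, 1) :: (2, 1) :: L, ∀ p ∈ P,
    step p e ∈ (1, 1) :: (2, 1) :: L ∨ 3 ≤ (step p e).1 ∧ ∀ v ∈ V, ¬ (step p e).2 ∣ v) ∧
  ([1, 2] ++ L.map Prod.fst).Pairwise (· < ·)

variable {G : Type*} [Group G] [Finite G]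

theorem mem_range_of_dvd {g : G} {d : ℕ} (h : d ∣ orderOf g) :
    d ∈ Set.range (orderOf : G → ℕ) := by
  refine ⟨g ^ (orderOf g / d), ?_⟩
  have hg := orderOf_pos g
  rw [orderOf_pow' g (Nat.div_pos (Nat.le_of_dvd hg h) (Nat.pos_of_dvd_of_pos h hg)).ne',
    Nat.gcd_eq_right (Nat.div_dvd_of_dvd h), Nat.div_div_self h hg.ne']

theorem cnt_ne_zero_iff {m : ℕ} :
    OrderCount.cnt G m ≠ 0 ↔ m ∈ Set.range (orderOf : G → ℕ) :=
  ⟨fun h => by_contra fun hm => h (OrderCount.cnt_eq_zero hm), fun h => (OrderCount.cnt_pos h).ne'⟩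

/-- The number of solutions of `g ^ M = 1`, along any list containing all orders. -/
theorem card_pow_eq_sum {M : ℕ} (hM : M ≠ 0) (T : List ℕ) (hT : T.Nodup)
    (hc : ∀ d, OrderCount.cnt G d ≠ 0 → d ∈ T) :
    Nat.card {g : G // g ^ M = 1} =
      (T.map fun d => if d ∣ M then OrderCount.cnt G d else 0).sum := by
  rw [OrderCount.card_pow_eq (G := G) M.divisors (fun d => by simp [hM]),
    ← List.sum_toFinset _ hT, ← Finset.sum_filter]
  refine (Finset.sum_subset (fun d hd => ?_) fun d hd hd' => ?_).symm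
  · simp only [Finset.mem_filter] at hd
    exact Nat.mem_divisors.2 ⟨hd.2, hM⟩
  · by_contra hne
    exact hd' (Finset.mem_filter.2 ⟨List.mem_toFinset.2 (hc d hne), (Nat.mem_divisors.1 hd).1⟩)

/-- The invariant of the search. -/
structure Inv (G : Type*) [Group G] (r o : List (ℕ × ℕ)) : Prop where
  sorted : (o.map Prod.fst ++ r.map Prod.fst).Pairwise (· < ·)
  cover : ∀ d, OrderCount.cnt G d ≠ 0 → d ∈ o.map Prod.fst ++ r.map Prod.fst
  val : ∀ e ∈ o, e.2 = OrderCount.cnt G e.1 ∧ e.2 ≠ 0
  tot : ∀ e ∈ r, 3 ≤ e.1 ∧ (OrderCount.cnt G e.1 ≠ 0 → e.2 ∣ OrderCount.cnt G e.1)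

theorem Inv.sumDvd_eq {r o : List (ℕ × ℕ)} (h : Inv G r o) (M : ℕ) :
    sumDvd o M = ((o.map Prod.fst).map fun d => if d ∣ M then OrderCount.cnt G d else 0).sum := by
  rw [sumDvd, List.map_map]
  exact congrArg List.sum (List.map_congr_left fun e he => by simp [Function.comp, ← (h.val e he).1])

theorem Inv.card_pow_of_nil {o : List (ℕ × ℕ)} (h : Inv G [] o) {M : ℕ} (hM : M ≠ 0) :
    Nat.card {g : G // g ^ M = 1} = sumDvd o M := by
  rw [h.sumDvd_eq]
  exact card_pow_eq_sum hM _ (by simpa using h.sorted.nodup) (by simpa using h.cover)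

theorem Inv.card_eq {o : List (ℕ × ℕ)} (h : Inv G [] o) :
    (o.map Prod.snd).sum = Nat.card G := by
  have e : Nat.card {g : G // g ^ Nat.card G = 1} = Nat.card G :=
    Nat.card_congr (Equiv.subtypeUnivEquiv fun g => pow_card_eq_one')
  rw [h.card_pow_of_nil Nat.card_pos.ne', sumDvd] at e
  refine Eq.trans (congrArg List.sum (List.map_congr_left fun x hx => ?_)) e
  obtain ⟨g, hg⟩ := cnt_ne_zero_iff.1 ((h.val x hx).1 ▸ (h.val x hx).2)
  rw [if_pos (hg ▸ orderOf_dvd_natCard g)]

theorem Inv.leaf {V : List ℕ} {o : List (ℕ × ℕ)} (h : Inv G [] o)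
    (hV : ∀ v ∈ V, ∃ m, OrderCount.cnt G m = v ∧ v ≠ 0) : leaf V o = true := by
  simp only [SameOrderCounts.leaf, Bool.and_eq_true, List.all_eq_true, List.any_eq_true, beq_iff_eq,
    h.card_eq, Bool.or_eq_true, Bool.not_eq_true', decide_eq_false_iff_not, decide_eq_true_iff]
  refine ⟨⟨fun v hv => ?_, fun e he => ?_⟩, fun n _ => ?_⟩
  · obtain ⟨m, hm, hv0⟩ := hV v hv
    obtain ⟨e, he, rfl⟩ := List.mem_map.1
      ((List.mem_append.1 (h.cover m (hm.symm ▸ hv0))).resolve_right (by simp))
    exact ⟨e, he, (h.val e he).1.trans hm⟩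
  · obtain ⟨g, hg⟩ := cnt_ne_zero_iff.1 ((h.val e he).1 ▸ (h.val e he).2)
    exact Nat.mod_eq_zero_of_dvd (hg ▸ orderOf_dvd_natCard g)
  · by_cases hn : n ∣ Nat.card G
    · exact Or.inr (h.card_pow_of_nil (Nat.pos_of_dvd_of_pos hn Nat.card_pos).ne' ▸
        FrobeniusTheorem.dvd_card_pow_eq_one hn)
    · exact Or.inl hn

theorem go_sound {V : List ℕ} (hV : ∀ v ∈ V, ∃ m, OrderCount.cnt G m = v ∧ v ≠ 0)
    (hmem : ∀ m, 3 ≤ m → OrderCount.cnt G m ≠ 0 → OrderCount.cnt G m ∈ V) :
    ∀ (k : ℕ) (r o : List (ℕ × ℕ)), r.length ≤ k → Inv G r o →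
      ∃ o' ∈ go V k r o, Inv G [] o' := by
  intro k
  induction k with
  | zero =>
    intro r o hr h
    obtain rfl : r = [] := List.length_eq_zero_iff.1 (by omega)
    exact ⟨o, by simp [go, h.leaf hV], h⟩
  | succ k ih =>
    intro r o hr h
    match r, hr, h with
    | [], _, h => exact ⟨o, by simp [go, h.leaf hV], h⟩
    | (m, f) :: r, hr, h =>
      have hr' : r.length ≤ k := by simpa using hr
      obtain ⟨hm3, hf⟩ := h.tot (m, f) (by simp)
      dsimp only at hf hm3
      have hs := h.sorted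
      simp only [List.map_cons] at hs
      rw [go]
      by_cases hm : OrderCount.cnt G m = 0
      · obtain ⟨o', ho', h'⟩ := ih (r.filter fun e => e.1 % m != 0) o
          ((List.length_filter_le _ _).trans hr')
          ⟨hs.sublist ((((List.filter_sublist).map Prod.fst).trans (List.sublist_cons_self _ _)).append_left _),
           fun d hd => by
             rcases List.mem_append.1 (h.cover d hd) with hd' | hd'
             · exact List.mem_append_left _ hd'
             · refine List.mem_append_right _ ?_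
               have hnd : ¬ m ∣ d := fun hmd => by
                 obtain ⟨g, rfl⟩ := cnt_ne_zero_iff.1 hd
                 exact cnt_ne_zero_iff.2 (mem_range_of_dvd hmd) hm
               obtain ⟨e, he, rfl⟩ := List.mem_map.1 hd'
               refine List.mem_map.2 ⟨e, List.mem_filter.2 ⟨?_, ?_⟩, rfl⟩
               · rcases List.mem_cons.1 he with rfl | he
                 · exact absurd dvd_rfl hnd
                 · exact he
               · simpa [Nat.dvd_iff_mod_eq_zero] using hnd,
           h.val, fun e he => h.tot e (List.mem_cons_of_mem _ (List.mem_of_mem_filter he))⟩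
        exact ⟨o', List.mem_append_left _ ho', h'⟩
      · have hle : ∀ d ∈ r.map Prod.fst, m < d :=
          fun d hd => List.rel_of_pairwise_cons (List.pairwise_append.1 hs).2.1 hd
        have key : m ∣ OrderCount.cnt G m + sumDvd o m := by
          obtain ⟨g, hg⟩ := cnt_ne_zero_iff.1 hm
          have := FrobeniusTheorem.dvd_card_pow_eq_one (hg ▸ orderOf_dvd_natCard g : m ∣ Nat.card G)
          rw [card_pow_eq_sum (by omega) _ hs.nodup (by simpa using h.cover), List.map_append,
            List.sum_append, List.map_cons, List.sum_cons, if_pos dvd_rfl, ← h.sumDvd_eq,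
            List.sum_eq_zero (l := (r.map Prod.fst).map _) (fun x hx => by
              obtain ⟨d, hd, rfl⟩ := List.mem_map.1 hx
              exact if_neg fun hdm => (Nat.le_of_dvd (by omega) hdm).not_gt (hle d hd)),
            add_zero, Nat.add_comm] at this
          exact this
        have hstep : Inv G r (o ++ [(m, OrderCount.cnt G m)]) :=
          ⟨by simpa using hs, fun d hd => by simpa using h.cover d hd,
           fun e he => by
             rcases List.mem_append.1 he with he | he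
             · exact h.val e he
             · rw [List.mem_singleton.1 he]; exact ⟨rfl, hm⟩,
           fun e he => h.tot e (List.mem_cons_of_mem _ he)⟩
        obtain ⟨o', ho', h'⟩ := ih r _ hr' hstep
        refine ⟨o', List.mem_append_right _ (List.mem_flatMap.2 ⟨_, List.mem_filter.2
          ⟨hmem m hm3 hm, ?_⟩, ho'⟩), h'⟩
        simp only [Bool.and_eq_true, beq_iff_eq]
        exact ⟨Nat.mod_eq_zero_of_dvd (hf hm),
          Nat.mod_eq_zero_of_dvd key⟩

theorem prime_mem {V P : List ℕ} {L : List (ℕ × ℕ)} {B : ℕ} (hcl : Closed V P L B)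
    (hmem : ∀ m, 3 ≤ m → OrderCount.cnt G m ≠ 0 → OrderCount.cnt G m ∈ V)
    {p : ℕ} (hp : p.Prime) (hc : OrderCount.cnt G p ≠ 0) : p ∈ P := by
  obtain ⟨hv, h2, hprime, -, -⟩ := hcl
  rcases eq_or_ne p 2 with rfl | hne
  · exact h2
  have h3 : 3 ≤ p := by have := hp.two_le; omega
  have hd1 : p - 1 ∣ OrderCount.cnt G p := Nat.totient_prime hp ▸ OrderCount.totient_dvd_cnt p
  have hd2 : p ∣ 1 + OrderCount.cnt G p := by
    obtain ⟨g, hg⟩ := cnt_ne_zero_iff.1 hc
    have := OrderCount.dvd_sum_cnt (G := G) (hg ▸ orderOf_dvd_natCard g : p ∣ Nat.card G) {1, p}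
      (fun d => by simp [Nat.dvd_prime hp])
    rwa [Finset.sum_pair (by omega), OrderCount.cnt_one] at this
  have hb := hv _ (hmem p h3 hc)
  have := Nat.le_of_dvd hb.2.1 hd1
  exact hprime p (List.mem_range.2 (by omega)) h3 ⟨_, hmem p h3 hc, hd1, hd2⟩ hp

theorem mem_cand {V P : List ℕ} {L : List (ℕ × ℕ)} {B : ℕ} (hcl : Closed V P L B)
    (hmem : ∀ m, 3 ≤ m → OrderCount.cnt G m ≠ 0 → OrderCount.cnt G m ∈ V) :
    ∀ m, OrderCount.cnt G m ≠ 0 → (m, Nat.totient m) ∈ (1, 1) :: (2, 1) :: L := by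
  intro m
  induction m using Nat.strong_induction_on with
  | _ m ih =>
    intro hm
    obtain ⟨g, hg⟩ := cnt_ne_zero_iff.1 hm
    have hpos : 0 < m := hg ▸ orderOf_pos g
    rcases eq_or_ne m 1 with rfl | h1
    · simp
    obtain ⟨d, hd⟩ := Nat.minFac_dvd m
    have hp := Nat.minFac_prime h1
    generalize m.minFac = p at hd hp
    have hdpos : 0 < d := by rcases Nat.eq_zero_or_pos d with rfl | h <;> omega
    have hdlt : d < m := hd ▸ lt_mul_left hdpos hp.one_lt
    have hdm := ih d hdlt (cnt_ne_zero_iff.2 (mem_range_of_dvd (g := g) (hg ▸ hd ▸ dvd_mul_left d p)))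
    have hpm : p ∈ P := prime_mem hcl hmem hp
      (cnt_ne_zero_iff.2 (mem_range_of_dvd (g := g) (hg ▸ hd ▸ dvd_mul_right p d)))
    have hst : step p (d, Nat.totient d) = (m, Nat.totient m) := by
      subst hd
      unfold step
      by_cases hpd : p ∣ d
      · rw [if_pos hpd, Nat.totient_mul_of_prime_of_dvd hp hpd]
      · rw [if_neg hpd, Nat.totient_mul ((hp.coprime_iff_not_dvd).2 hpd), Nat.totient_prime hp]
    rcases hcl.2.2.2.1 _ hdm p hpm with h | ⟨h3, hno⟩
    · rwa [hst] at h
    · rw [hst] at h3 hno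
      exact absurd (OrderCount.totient_dvd_cnt m) (hno _ (hmem m h3 hm))

/-- The output of the search describes `G`. -/
theorem counts_eq {V P : List ℕ} {L : List (ℕ × ℕ)} {B s : ℕ} {o : List (ℕ × ℕ)}
    (hcl : Closed V P L B) (hs : s % 2 = 1) (hs1 : s ≠ 1)
    (hset : ∀ x, x ∈ (fun m : ℕ => Nat.card {g : G // orderOf g = m}) '' Set.range (orderOf : G → ℕ) ↔
      x ∈ 1 :: s :: V)
    (hrun : go V L.length L [(1, 1), (2, s)] = [o]) :
    Nat.card G = (o.map Prod.snd).sum ∧
      ∀ m, m ∈ Set.range (orderOf : G → ℕ) ↔ m ∈ o.map Prod.fst := by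
  have hex : ∀ x ∈ 1 :: s :: V, ∃ m, OrderCount.cnt G m = x ∧ OrderCount.cnt G m ≠ 0 := fun x hx => by
    obtain ⟨m, hm, he⟩ := (hset x).2 hx
    exact ⟨m, he, cnt_ne_zero_iff.2 hm⟩
  have hmem : ∀ m, 3 ≤ m → OrderCount.cnt G m ≠ 0 → OrderCount.cnt G m ∈ V := by
    intro m h3 hm
    have he : OrderCount.cnt G m % 2 = 0 := Nat.mod_eq_zero_of_dvd
      ((even_iff_two_dvd.1 (Nat.totient_even (by omega))).trans (OrderCount.totient_dvd_cnt m))
    have hx := (hset (OrderCount.cnt G m)).1 ⟨m, cnt_ne_zero_iff.1 hm, rfl⟩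
    simp only [List.mem_cons] at hx
    rcases hx with hx | hx | hx
    · omega
    · omega
    · exact hx
  have h2 : OrderCount.cnt G 2 = s := by
    obtain ⟨m, hm, hm0⟩ := hex s (by simp)
    rcases Nat.lt_or_ge m 3 with h | h
    · interval_cases m
      · obtain ⟨g, hg⟩ := cnt_ne_zero_iff.1 hm0
        exact absurd hg (orderOf_pos g).ne'
      · exact absurd (hm.symm.trans OrderCount.cnt_one) hs1
      · exact hm
    · have := (hcl.1 _ (hmem m h hm0)).1
      omega
  have hsorted := hcl.2.2.2.2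
  have hinv : Inv G L [(1, 1), (2, s)] := by
    refine ⟨by simpa using hsorted, fun d hd => ?_, fun e he => ?_, fun e he => ?_⟩
    · have := List.mem_map_of_mem (f := Prod.fst) (mem_cand hcl hmem d hd)
      simpa using this
    · simp only [List.mem_cons, List.not_mem_nil, or_false] at he
      rcases he with rfl | rfl
      · exact ⟨OrderCount.cnt_one.symm, one_ne_zero⟩
      · exact ⟨h2.symm, by omega⟩
    · have hsort' := List.pairwise_append.1 hsorted
      have h3 : 3 ≤ e.1 := hsort'.2.2 2 (by simp) e.1 (List.mem_map_of_mem he)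
      refine ⟨h3, fun hne => ?_⟩
      have hnd : (((1, 1) :: (2, 1) :: L).map Prod.fst).Nodup := by simpa using hsorted.nodup
      have := List.inj_on_of_nodup_map hnd (List.mem_cons_of_mem _ (List.mem_cons_of_mem _ he))
        (mem_cand hcl hmem e.1 hne) rfl
      rw [this]
      exact OrderCount.totient_dvd_cnt _
  obtain ⟨o', ho', h'⟩ := go_sound (V := V)
    (fun v hv => by
      obtain ⟨m, hm, h0⟩ := hex v (by simp [hv])
      exact ⟨m, hm, hm ▸ h0⟩) hmem _ L _ le_rfl hinv
  rw [hrun, List.mem_singleton] at ho'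
  subst ho'
  refine ⟨h'.card_eq.symm, fun m => ⟨fun hm => by simpa using h'.cover m (cnt_ne_zero_iff.2 hm),
    fun hm => ?_⟩⟩
  obtain ⟨e, he, rfl⟩ := List.mem_map.1 hm
  exact cnt_ne_zero_iff.1 ((h'.val e he).1 ▸ (h'.val e he).2)

end Cfsg.Agent.Lib.SameOrderCounts
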